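import Groth.Agent.CohLib.ConstSection
import Groth.Agent.CohLib.ExtShift

/-!
# A locally constant nonzero integer acting on abelian sheaves
-/

set_option autoImplicit false
set_option backward.isDefEq.respectTransparency false
set_option backward.isDefEq.respectTransparency.types false
set_option linter.style.haveILetI false
set_option linter.unusedSectionVars false

universe u

open CategoryTheory CategoryTheory.Limits Opposite CategoryTheory.Abelian

namespace Groth.Agent.LocScalarLib

variable {C : Type u} [SmallCategory C] {J : GrothendieckTopology C}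

/-- The constant sheaf `ℤ`. -/
noncomputable abbrev cZ (J : GrothendieckTopology C) : Sheaf J AddCommGrpCat.{u} :=
  (constantSheaf J AddCommGrpCat.{u}).obj (AddCommGrpCat.of (ULift.{u} ℤ))

/-- The section `1`. -/
noncomputable def one (W : C) : (cZ J).obj.obj (op W) :=
  (toSheafify J ((Functor.const Cᵒᵖ).obj (AddCommGrpCat.of (ULift.{u} ℤ)))).app (op W) (ULift.up 1)

/-- An integer killing `1` over `W` kills every section over `W`. -/
theorem zsmul_eq_zero (F : Sheaf J AddCommGrpCat.{u}) {W : C} (m : ℤ) (hm : m • one (J := J) W = 0)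
    (s : F.obj.obj (op W)) : m • s = 0 := by
  let P := (Functor.const Cᵒᵖ).obj (AddCommGrpCat.of (ULift.{u} ℤ))
  have h : (toSheafify J P).app (op W) (ULift.up m) = (toSheafify J P).app (op W) (0 : ULift.{u} ℤ) := by
    rw [map_zero]
    refine Eq.trans ?_ hm
    change _ = m • (toSheafify J P).app (op W) (ULift.up 1)
    rw [← map_zsmul]
    exact congrArg ((toSheafify J P).app (op W)) (ULift.ext _ _ (by change m = m • (1 : ℤ); simp))
  have hR := Presheaf.equalizerSieve_mem J (toSheafify J P) _ _ h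
  refine (((isSheaf_iff_isSheaf_of_type J _).1
    ((sheafCompose J (forget AddCommGrpCat.{u})).obj F).property) _ hR).isSeparatedFor.ext fun V f hf => ?_
  simp only [Presheaf.equalizerSieve_apply] at hf
  have hm0 : m = 0 := congrArg ULift.down (show ULift.up.{u} m = 0 from hf)
  change F.obj.map f.op (m • s) = F.obj.map f.op 0
  rw [hm0, zero_smul]

variable (φ : cZ J ⟶ cZ J) {ι : Type u} (U : ι → C) (n : ι → ℤ)
  (hφ : ∀ (i : ι) (V : C) (_ : V ⟶ U i), φ.hom.app (op V) = n i • 𝟙 _)
  (hcov : ∀ V : C, ∃ R ∈ J V, ∀ ⦃W : C⦄ (g : W ⟶ V), R g → ∃ i, Nonempty (W ⟶ U i))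

include hφ in
theorem zsmul_eq_zsmul (F : Sheaf J AddCommGrpCat.{u}) {W : C} {i j : ι} (a : W ⟶ U i) (b : W ⟶ U j)
    (s : F.obj.obj (op W)) : n i • s = n j • s := by
  rw [← sub_eq_zero, ← sub_smul]
  refine zsmul_eq_zero F _ ?_ s
  rw [sub_smul, sub_eq_zero]
  exact ConcreteCategory.congr_hom ((hφ i W a).symm.trans (hφ j W b)) (one W)

/-- The objects over the covering, as a sieve. -/
def locSieve (V : C) : Sieve V where
  arrows W _ := ∃ i, Nonempty (W ⟶ U i)
  downward_closed := fun ⟨i, ⟨a⟩⟩ g => ⟨i, ⟨g ≫ a⟩⟩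

include hcov in
theorem locSieve_mem (V : C) : locSieve U V ∈ J V := by
  obtain ⟨R, hR, hR'⟩ := hcov V
  exact J.superset_covering (fun W g hg => hR' g hg) hR

include hcov in
theorem section_ext (F : Sheaf J AddCommGrpCat.{u}) {V : C} {s t : F.obj.obj (op V)}
    (h : ∀ (W : C) (g : W ⟶ V) (i : ι) (_ : W ⟶ U i), F.obj.map g.op s = F.obj.map g.op t) : s = t :=
  (((isSheaf_iff_isSheaf_of_type J _).1 ((sheafCompose J (forget AddCommGrpCat.{u})).obj F).property) _
    (locSieve_mem U hcov V)).isSeparatedFor.ext fun W g ⟨i, ⟨a⟩⟩ => h W g i a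

include hφ hcov in
theorem exists_value (F : Sheaf J AddCommGrpCat.{u}) {V : C} (s : F.obj.obj (op V)) :
    ∃ t : F.obj.obj (op V), ∀ (W : C) (g : W ⟶ V) (i : ι) (_ : W ⟶ U i),
      F.obj.map g.op t = n i • F.obj.map g.op s := by
  have hS := ((isSheaf_iff_isSheaf_of_type J _).1
    ((sheafCompose J (forget AddCommGrpCat.{u})).obj F).property) _ (locSieve_mem U hcov V)
  let x : Presieve.FamilyOfElements (F.obj ⋙ forget AddCommGrpCat.{u}) (locSieve U V).arrows :=
    fun W g hg => (n hg.choose • F.obj.map g.op s : F.obj.obj (op W))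
  have hx : x.Compatible := by
    intro W₁ W₂ Z g₁ g₂ f₁ f₂ h₁ h₂ e
    change F.obj.map g₁.op (n h₁.choose • F.obj.map f₁.op s) = F.obj.map g₂.op (n h₂.choose • F.obj.map f₂.op s)
    rw [map_zsmul, map_zsmul, ← ConcreteCategory.comp_apply, ← ConcreteCategory.comp_apply,
      ← F.obj.map_comp, ← F.obj.map_comp, ← op_comp, ← op_comp, e]
    exact zsmul_eq_zsmul φ U n hφ F (g₁ ≫ h₁.choose_spec.some) (g₂ ≫ h₂.choose_spec.some) _
  refine ⟨hS.amalgamate x hx, fun W g i a => ?_⟩
  have hg : (locSieve U V).arrows g := ⟨i, ⟨a⟩⟩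
  refine (hS.valid_glue hx g hg).trans ?_
  exact zsmul_eq_zsmul φ U n hφ F hg.choose_spec.some a _

/-- The value of the local scalar. -/
noncomputable def value (F : Sheaf J AddCommGrpCat.{u}) {V : C} (s : F.obj.obj (op V)) : F.obj.obj (op V) :=
  (exists_value φ U n hφ hcov F s).choose

theorem value_spec (F : Sheaf J AddCommGrpCat.{u}) {V : C} (s : F.obj.obj (op V)) (W : C) (g : W ⟶ V)
    (i : ι) (a : W ⟶ U i) : F.obj.map g.op (value φ U n hφ hcov F s) = n i • F.obj.map g.op s :=
  (exists_value φ U n hφ hcov F s).choose_spec W g i a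

/-- The action of the local scalar on a sheaf. -/
noncomputable def act (F : Sheaf J AddCommGrpCat.{u}) : F ⟶ F :=
  ⟨{ app := fun V => AddCommGrpCat.ofHom (AddMonoidHom.mk' (fun s => value φ U n hφ hcov F (V := V.unop) s)
        fun s t => section_ext U hcov F fun W g i a => by
          rw [map_add, value_spec φ U n hφ hcov F _ W g i a, value_spec φ U n hφ hcov F _ W g i a,
            value_spec φ U n hφ hcov F _ W g i a, map_add, smul_add])
     naturality := fun V V' f => by
      ext s
      refine section_ext U hcov F fun W g i a => ?_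
      change F.obj.map g.op (value φ U n hφ hcov F (V := V'.unop) (F.obj.map f s)) =
        F.obj.map g.op (F.obj.map f (value φ U n hφ hcov F (V := V.unop) s))
      rw [value_spec φ U n hφ hcov F _ W g i a, ← ConcreteCategory.comp_apply, ← ConcreteCategory.comp_apply,
        ← F.obj.map_comp]
      exact (value_spec φ U n hφ hcov F (V := V.unop) s W (g ≫ f.unop) i a).symm }⟩

theorem act_spec (F : Sheaf J AddCommGrpCat.{u}) {V W : C} (g : W ⟶ V) (i : ι) (a : W ⟶ U i)
    (s : F.obj.obj (op V)) :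
    F.obj.map g.op ((act φ U n hφ hcov F).hom.app (op V) s) = n i • F.obj.map g.op s :=
  value_spec φ U n hφ hcov F s W g i a

theorem act_naturality {F G : Sheaf J AddCommGrpCat.{u}} (f : F ⟶ G) :
    act φ U n hφ hcov F ≫ f = f ≫ act φ U n hφ hcov G := by
  ext ⟨V⟩ s
  refine section_ext U hcov G fun W g i a => ?_
  change G.obj.map g.op (f.hom.app (op V) ((act φ U n hφ hcov F).hom.app (op V) s)) =
    G.obj.map g.op ((act φ U n hφ hcov G).hom.app (op V) (f.hom.app (op V) s))
  rw [← NatTrans.naturality_apply, act_spec φ U n hφ hcov F g i a, map_zsmul, act_spec φ U n hφ hcov G g i a,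
    NatTrans.naturality_apply]

theorem act_cZ : act φ U n hφ hcov (cZ J) = φ := by
  ext ⟨V⟩ s
  refine section_ext U hcov (cZ J) fun W g i a => ?_
  rw [act_spec φ U n hφ hcov (cZ J) g i a, ← NatTrans.naturality_apply φ.hom g.op s, hφ i W a]
  rfl

theorem isIso_act (F : Sheaf J AddCommGrpCat.{u})
    (hF : ∀ (i : ι) (W : C) (_ : W ⟶ U i), Function.Bijective fun s : F.obj.obj (op W) => n i • s) :
    IsIso (act φ U n hφ hcov F) := by
  haveI : ∀ V, IsIso (((sheafToPresheaf J AddCommGrpCat.{u}).map (act φ U n hφ hcov F)).app V) := fun V => by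
    rw [ConcreteCategory.isIso_iff_bijective]
    constructor
    · intro s t hst
      refine section_ext U hcov F fun W g i a => (hF i W a).1 ?_
      have := congrArg (F.obj.map g.op) hst
      exact (act_spec φ U n hφ hcov F g i a s).symm.trans (this.trans (act_spec φ U n hφ hcov F g i a t))
    · intro t
      have hS := ((isSheaf_iff_isSheaf_of_type J _).1
        ((sheafCompose J (forget AddCommGrpCat.{u})).obj F).property) _ (locSieve_mem U hcov V.unop)
      let x : Presieve.FamilyOfElements (F.obj ⋙ forget AddCommGrpCat.{u}) (locSieve U V.unop).arrows :=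
        fun W g hg => ((hF hg.choose W hg.choose_spec.some).2 (F.obj.map g.op t)).choose
      have hx' : ∀ (W : C) (g : W ⟶ V.unop) (hg : (locSieve U V.unop).arrows g),
          n hg.choose • (show F.obj.obj (op W) from x g hg) = F.obj.map g.op t := fun W g hg =>
        ((hF hg.choose W hg.choose_spec.some).2 (F.obj.map g.op t)).choose_spec
      have hx : x.Compatible := by
        intro W₁ W₂ Z g₁ g₂ f₁ f₂ h₁ h₂ e
        refine (hF h₁.choose Z (g₁ ≫ h₁.choose_spec.some)).1 ?_
        change n h₁.choose • F.obj.map g₁.op (x f₁ h₁) = n h₁.choose • F.obj.map g₂.op (x f₂ h₂)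
        rw [zsmul_eq_zsmul φ U n hφ F (g₁ ≫ h₁.choose_spec.some) (g₂ ≫ h₂.choose_spec.some)
          (F.obj.map g₂.op (x f₂ h₂)), ← map_zsmul, ← map_zsmul, hx', hx', ← ConcreteCategory.comp_apply,
          ← ConcreteCategory.comp_apply, ← F.obj.map_comp, ← F.obj.map_comp, ← op_comp, ← op_comp, e]
      refine ⟨hS.amalgamate x hx, section_ext U hcov F fun W g i a => ?_⟩
      have hg : (locSieve U V.unop).arrows g := ⟨i, ⟨a⟩⟩
      have h₁ : F.obj.map g.op (hS.amalgamate x hx) = x g hg := hS.valid_glue hx g hg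
      refine (act_spec φ U n hφ hcov F (V := V.unop) g i a (hS.amalgamate x hx)).trans ?_
      rw [h₁, zsmul_eq_zsmul φ U n hφ F a hg.choose_spec.some]
      exact hx' W g hg
  haveI : IsIso ((sheafToPresheaf J AddCommGrpCat.{u}).map (act φ U n hφ hcov F)) := NatIso.isIso_of_isIso_app _
  exact isIso_of_fully_faithful (sheafToPresheaf J AddCommGrpCat.{u}) _

/-- In degree one the two actions on `Ext` agree. -/
theorem ext_one_act (F : Sheaf J AddCommGrpCat.{u}) (x : Ext.{u} (cZ J) F 1) :
    (Ext.mk₀ φ).comp x (zero_add 1) = x.comp (Ext.mk₀ (act φ U n hφ hcov F)) (add_zero 1) := by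
  have hS := CohLib.injSC_shortExact F
  obtain ⟨y, rfl⟩ := Ext.covariant_sequence_exact₁ (cZ J) hS x (Ext.eq_zero_of_injective _) (n₀ := 0) (by omega)
  obtain ⟨t, rfl⟩ := (Ext.mk₀_bijective _ _).2 y
  let ψ : CohLib.injSC F ⟶ CohLib.injSC F :=
    { τ₁ := act φ U n hφ hcov _
      τ₂ := act φ U n hφ hcov _
      τ₃ := act φ U n hφ hcov _
      comm₁₂ := act_naturality φ U n hφ hcov _
      comm₂₃ := act_naturality φ U n hφ hcov _ }
  have h := ShortComplex.ShortExact.extClass_naturality hS hS ψ
  conv_rhs => rw [Ext.comp_assoc_of_third_deg_zero, h, ← Ext.comp_assoc_of_second_deg_zero, Ext.mk₀_comp_mk₀]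
  rw [← Ext.comp_assoc (Ext.mk₀ φ) (Ext.mk₀ t) hS.extClass (zero_add 0) (zero_add 1) (by omega), Ext.mk₀_comp_mk₀]
  refine congrArg (fun k => (Ext.mk₀ k).comp hS.extClass (zero_add 1)) ?_
  have := act_naturality φ U n hφ hcov t
  rw [act_cZ] at this
  exact this

end Groth.Agent.LocScalarLib
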