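import Groth.Agent.LocScalarLib.Basic
import Mathlib

/-!
# No torsion in `H¹` of a torsion-free constant sheaf
-/

set_option autoImplicit false
set_option backward.isDefEq.respectTransparency false
set_option backward.isDefEq.respectTransparency.types false
set_option linter.style.haveILetI false

universe u

open CategoryTheory CategoryTheory.Limits Opposite CategoryTheory.Abelian

namespace Groth.Agent.LocScalarLib

variable {C : Type u} [SmallCategory C] {J : GrothendieckTopology C}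

theorem bijective_zsmul_const {V : AddCommGrpCat.{u}} (m : ℤ) (hm : Function.Bijective fun v : V => m • v) (W : C) :
    Function.Bijective fun s : ((constantSheaf J AddCommGrpCat.{u}).obj V).obj.obj (op W) => m • s := by
  haveI : (presheafToSheaf J AddCommGrpCat.{u}).Additive :=
    (sheafificationAdjunction J AddCommGrpCat.{u}).left_adjoint_additive
  haveI : (constantSheaf J AddCommGrpCat.{u}).Additive :=
    inferInstanceAs (Functor.const Cᵒᵖ ⋙ presheafToSheaf J AddCommGrpCat.{u}).Additive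
  haveI : IsIso (m • 𝟙 V) := (ConcreteCategory.isIso_iff_bijective _).2 hm
  have h : IsIso ((constantSheaf J AddCommGrpCat.{u}).map (m • 𝟙 V)) := inferInstance
  rw [Functor.map_zsmul, CategoryTheory.Functor.map_id] at h
  haveI := h
  haveI : IsIso ((sheafToPresheaf J AddCommGrpCat.{u} ⋙ (evaluation Cᵒᵖ AddCommGrpCat.{u}).obj (op W)).map
      (m • 𝟙 ((constantSheaf J AddCommGrpCat.{u}).obj V))) := inferInstance
  exact (ConcreteCategory.isIso_iff_bijective _).1 this

theorem hull_props {A M : Type u} [AddCommGroup A] [AddCommGroup M] [modM : Module ℤ M]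
    (hA : ∀ (m : ℤ) (a : A), m ≠ 0 → m • a = 0 → a = 0) (g : A →ₗ[ℤ] M) [IsLocalizedModule (nonZeroDivisors ℤ) g] :
    Function.Injective g.toAddMonoidHom ∧ ∀ m : ℤ, m ≠ 0 → Function.Bijective fun v : M => m • v := by
  obtain rfl : modM = AddCommGroup.toIntModule M := Subsingleton.elim _ _
  refine ⟨(injective_iff_map_eq_zero g.toAddMonoidHom).2 fun a ha => ?_, fun m hm => ?_⟩
  · obtain ⟨c, hc⟩ := (IsLocalizedModule.eq_zero_iff (nonZeroDivisors ℤ) g).1 ha
    exact hA c.1 a (nonZeroDivisors.ne_zero c.2) hc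
  · have h := (Module.End.isUnit_iff _).1 (IsLocalizedModule.map_units g
      (⟨m, mem_nonZeroDivisors_of_ne_zero hm⟩ : nonZeroDivisors ℤ))
    exact h

theorem exists_hull {A : Type u} [AddCommGroup A] (hA : ∀ (m : ℤ) (a : A), m ≠ 0 → m • a = 0 → a = 0) :
    ∃ (V : Type u) (_ : AddCommGroup V) (f : A →+ V), Function.Injective f ∧
      ∀ m : ℤ, m ≠ 0 → Function.Bijective fun v : V => m • v :=
  ⟨LocalizedModule (nonZeroDivisors ℤ) A, _, _,
    hull_props (modM := OreLocalization.instModuleOfIsScalarTower) hA (LocalizedModule.mkLinearMap (nonZeroDivisors ℤ) A)⟩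

theorem H_one_eq_zero {A : Type u} [AddCommGroup A] (hA : ∀ (m : ℤ) (a : A), m ≠ 0 → m • a = 0 → a = 0)
    (φ : cZ J ⟶ cZ J) {ι : Type u} (U : ι → C) (n : ι → ℤ) (hn : ∀ i, n i ≠ 0)
    (hφ : ∀ (i : ι) (V : C) (_ : V ⟶ U i), φ.hom.app (op V) = n i • 𝟙 _)
    (hcov : ∀ V : C, ∃ R ∈ J V, ∀ ⦃W : C⦄ (g : W ⟶ V), R g → ∃ i, Nonempty (W ⟶ U i))
    (x : Ext.{u} (cZ J) ((constantSheaf J AddCommGrpCat.{u}).obj (AddCommGrpCat.of A)) 1)
    (hx : (Ext.mk₀ φ).comp x (zero_add 1) = 0) : x = 0 := by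
  obtain ⟨V, _, f, hf, hdiv⟩ := exists_hull hA
  refine CohLib.injective_H_map_constantSheaf f hf (Eq.trans ?_ (map_zero _).symm)
  let cf := (constantSheaf J AddCommGrpCat.{u}).map (AddCommGrpCat.ofHom f)
  change x.comp (Ext.mk₀ cf) (add_zero 1) = 0
  have h₁ : (Ext.mk₀ φ).comp (x.comp (Ext.mk₀ cf) (add_zero 1)) (zero_add 1) = 0 := by
    rw [← Ext.comp_assoc (Ext.mk₀ φ) x (Ext.mk₀ cf) (zero_add 1) (add_zero 1) (by omega), hx, Ext.zero_comp]
  rw [ext_one_act φ U n hφ hcov] at h₁
  haveI := isIso_act φ U n hφ hcov ((constantSheaf J AddCommGrpCat.{u}).obj (AddCommGrpCat.of V))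
    (fun i W _ => bijective_zsmul_const (V := AddCommGrpCat.of V) (n i) (hdiv (n i) (hn i)) W)
  have := congrArg (fun z => Ext.comp z (Ext.mk₀ (inv (act φ U n hφ hcov _))) (add_zero 1)) h₁
  simp only [Ext.comp_assoc_of_third_deg_zero, Ext.mk₀_comp_mk₀, Ext.zero_comp, Category.assoc,
    IsIso.hom_inv_id, Category.comp_id] at this
  exact this

end Groth.Agent.LocScalarLib
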